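import Groth.Agent.Lib.PdResolution.Basic
import Groth.Prelude.Def_DRing2
import Mathlib.CategoryTheory.Monoidal.Tor
import Mathlib.Algebra.Category.ModuleCat.Projective
import Mathlib.RingTheory.Regular.RegularSequence
import Mathlib.RingTheory.Flat.Basic
import Mathlib.Algebra.Homology.ShortComplex.ModuleCat

/-! Vanishing of `Tor` when the projective dimension is bounded by the depth. -/

set_option autoImplicit false
set_option linter.style.haveILetI false

universe u

open CategoryTheory CategoryTheory.Limits TensorProduct RingTheory.Sequence IsLocalRing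

namespace GrothLib.IntMult4

variable {A : Type u} [CommRing A]

/-- If the homology of `F ⊗ N'` vanishes one step above, multiplication by a regular element is
injective on the homology of `F ⊗ N`. -/
theorem smul_reflect {F₁ F₂ F₃ : Type u} [AddCommGroup F₁] [Module A F₁]
    [AddCommGroup F₂] [Module A F₂] [AddCommGroup F₃] [Module A F₃] [Module.Flat A F₁]
    (d₂ : F₂ →ₗ[A] F₁) (d₃ : F₃ →ₗ[A] F₂) (h23 : d₂ ∘ₗ d₃ = 0)
    {N : Type u} [AddCommGroup N] [Module A N] {x : A} (hx : IsSMulRegular N x)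
    (hN' : ∀ w : QuotSMulTop x N ⊗[A] F₂, d₂.lTensor _ w = 0 → ∃ v, d₃.lTensor _ v = w)
    {z : N ⊗[A] F₁} {w : N ⊗[A] F₂} (hw : d₂.lTensor N w = x • z) :
    ∃ w', d₂.lTensor N w' = z := by
  let q : N →ₗ[A] QuotSMulTop x N := Submodule.mkQ _
  let μ : N →ₗ[A] N := x • LinearMap.id
  have hex : Function.Exact μ q := fun n => by
    rw [Submodule.mkQ_apply, Submodule.Quotient.mk_eq_zero, Submodule.mem_smul_pointwise_iff_exists]
    exact ⟨fun ⟨b, _, hb⟩ => ⟨b, hb⟩, fun ⟨b, hb⟩ => ⟨b, trivial, hb⟩⟩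
  have hq : Function.Surjective q := Submodule.mkQ_surjective _
  have hμ : ∀ (G : Type u) [AddCommGroup G] [Module A G] (y : N ⊗[A] G), μ.rTensor G y = x • y := fun G _ _ y => by
    rw [LinearMap.rTensor_smul, LinearMap.rTensor_id]; rfl
  have hcomm : ∀ {G G' : Type u} [AddCommGroup G] [Module A G] [AddCommGroup G'] [Module A G'] (d : G →ₗ[A] G')
      (y : N ⊗[A] G), d.lTensor _ (q.rTensor G y) = q.rTensor G' (d.lTensor N y) := fun d y => by
    rw [← LinearMap.comp_apply, ← LinearMap.comp_apply, LinearMap.lTensor_comp_rTensor, LinearMap.rTensor_comp_lTensor]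
  obtain ⟨v, hv⟩ := hN' (q.rTensor F₂ w) (by
    rw [hcomm, hw, ← hμ]
    exact (rTensor_exact F₁ hex hq).apply_apply_eq_zero _)
  obtain ⟨v', rfl⟩ := LinearMap.rTensor_surjective F₃ hq v
  rw [hcomm] at hv
  obtain ⟨w', hw'⟩ := (rTensor_exact F₂ hex hq (w - d₃.lTensor N v')).1 (by rw [map_sub, hv, sub_self])
  rw [hμ] at hw'
  have hd : d₂.lTensor N (d₃.lTensor N v') = 0 := by
    rw [← LinearMap.comp_apply, ← LinearMap.lTensor_comp, h23, LinearMap.lTensor_zero, LinearMap.zero_apply]
  have hinj : Function.Injective (μ.rTensor F₁) :=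
    Module.Flat.rTensor_preserves_injective_linearMap μ hx
  refine ⟨w', hinj ?_⟩
  rw [hμ, hμ, ← map_smul, hw', map_sub, hd, sub_zero, hw]

variable {J I : Ideal A} (P : ProjectiveResolution (ModuleCat.of A (A ⧸ J)))

/-- Exactness of `N ⊗ P` in degree `i + 1`. -/
def Ex (N : Type u) [AddCommGroup N] [Module A N] (i : ℕ) : Prop :=
  ∀ z : N ⊗[A] (P.complex.X (i + 1)), (P.complex.d (i + 1) i).hom.lTensor N z = 0 →
    ∃ w, (P.complex.d (i + 2) (i + 1)).hom.lTensor N w = z

/-- Elements of `J` kill the homology of `N ⊗ P`. -/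
theorem smul_mem_range {a : A} (ha : a ∈ J) (N : Type u) [AddCommGroup N] [Module A N] (i : ℕ)
    (z : N ⊗[A] (P.complex.X (i + 1))) (hz : (P.complex.d (i + 1) i).hom.lTensor N z = 0) :
    ∃ w, (P.complex.d (i + 2) (i + 1)).hom.lTensor N w = a • z := by
  have hcomm : (a • 𝟙 P.complex) ≫ P.π = 0 := by
    refine HomologicalComplex.to_single_hom_ext (ModuleCat.hom_ext (LinearMap.ext fun x => ?_))
    show (P.π.f 0).hom (a • x) = 0
    rw [map_smul]
    exact Module.mem_annihilator.1
      (show a ∈ Module.annihilator A (A ⧸ J) by rwa [Ideal.annihilator_quotient]) _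
  let h := ProjectiveResolution.liftHomotopyZero (a • 𝟙 P.complex) hcomm
  have hc := congrArg ModuleCat.Hom.hom (h.comm (i + 1))
  rw [Homotopy.dNext_succ_chainComplex, Homotopy.prevD_chainComplex] at hc
  simp only [HomologicalComplex.smul_f_apply, HomologicalComplex.id_f, HomologicalComplex.zero_f,
    add_zero, ModuleCat.hom_smul, ModuleCat.hom_id, ModuleCat.hom_add, ModuleCat.hom_comp] at hc
  have h2 := LinearMap.congr_fun (congrArg (LinearMap.lTensor N) hc) z
  rw [LinearMap.lTensor_smul, LinearMap.lTensor_id, LinearMap.lTensor_add, LinearMap.lTensor_comp,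
    LinearMap.lTensor_comp, LinearMap.add_apply, LinearMap.comp_apply, LinearMap.comp_apply, hz,
    map_zero, zero_add, LinearMap.smul_apply, LinearMap.id_apply] at h2
  exact ⟨_, h2.symm⟩

variable [IsLocalRing A] {l : ℕ}

theorem ex_of_regular (hP : ∀ i : ℕ, l < i → IsZero (P.complex.X i)) (hfin : maximalIdeal A ≤ (J ⊔ I).radical) :
    ∀ (xs : List A), (∀ x ∈ xs, x ∈ maximalIdeal A) → ∀ (N : Type u) [AddCommGroup N] [Module A N],
      (∀ a ∈ I, ∀ n : N, a • n = 0) → IsWeaklyRegular N xs → ∀ i : ℕ, l ≤ i + xs.length → Ex P N i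
  | [], _, N, _, _, _, _, i, hi => fun z _ => by
    haveI := ModuleCat.subsingleton_of_isZero (hP (i + 1) (by simp at hi; omega))
    exact ⟨0, Subsingleton.elim _ _⟩
  | x :: xs, hmem, N, _, _, hI, hreg, i, hi => by
    rw [isWeaklyRegular_cons_iff] at hreg
    have ih := ex_of_regular hP hfin xs (fun y hy => hmem y (List.mem_cons_of_mem _ hy)) (QuotSMulTop x N)
      (fun a ha n => by
        obtain ⟨n, rfl⟩ := Submodule.Quotient.mk_surjective _ n
        rw [← Submodule.Quotient.mk_smul, hI a ha, Submodule.Quotient.mk_zero]) hreg.2 (i + 1) (by simp at hi; omega)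
    haveI : Module.Projective A (P.complex.X (i + 1)) := (IsProjective.iff_projective _).2 (P.projective _)
    obtain ⟨n, hn⟩ := hfin (hmem x (List.mem_cons_self))
    obtain ⟨a, ha, b, hb, hab⟩ := Submodule.mem_sup.1 hn
    have key : ∀ k, ∀ z : N ⊗[A] (P.complex.X (i + 1)),
        (∃ w, (P.complex.d (i + 2) (i + 1)).hom.lTensor N w = x ^ k • z) →
          ∃ w, (P.complex.d (i + 2) (i + 1)).hom.lTensor N w = z := by
      intro k
      induction k with
      | zero => intro z hz; simpa using hz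
      | succ k ihk =>
        intro z ⟨w, hw⟩
        rw [pow_succ', mul_smul] at hw
        exact ihk z (smul_reflect _ _ (by rw [← ModuleCat.hom_comp, P.complex.d_comp_d, ModuleCat.hom_zero])
          hreg.1 ih hw)
    intro z hz
    refine key n z ?_
    obtain ⟨w, hw⟩ := smul_mem_range P ha N i z hz
    refine ⟨w, ?_⟩
    have hbz : ∀ y : N ⊗[A] (P.complex.X (i + 1)), b • y = 0 := fun y => by
      induction y with
      | zero => simp
      | add y y' h h' => rw [smul_add, h, h', add_zero]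
      | tmul n p => rw [TensorProduct.smul_tmul', hI b hb, TensorProduct.zero_tmul]
    rw [hw, ← hab, add_smul, hbz, add_zero]

theorem isZero_tor (hP : ∀ i : ℕ, l < i → IsZero (P.complex.X i)) (hfin : maximalIdeal A ≤ (J ⊔ I).radical)
    (xs : List A) (hmem : ∀ x ∈ xs, x ∈ maximalIdeal A) (N : Type u) [AddCommGroup N] [Module A N]
    (hI : ∀ a ∈ I, ∀ n : N, a • n = 0) (hreg : IsWeaklyRegular N xs) (i : ℕ) (hi : l ≤ i + xs.length) :
    Subsingleton (DRing.Tor A (i + 1) N (A ⧸ J)) := by
  let G := (MonoidalCategory.tensoringLeft (ModuleCat.{u} A)).obj (ModuleCat.of A N)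
  let C := (G.mapHomologicalComplex (ComplexShape.down ℕ)).obj P.complex
  let e : ((CategoryTheory.Tor (ModuleCat.{u} A) (i + 1)).obj (ModuleCat.of A N)).obj (ModuleCat.of A (A ⧸ J)) ≅
      C.homology (i + 1) :=
    P.isoLeftDerivedObj G (i + 1)
  refine ModuleCat.subsingleton_of_isZero ?_
  rw [e.isZero_iff, ← HomologicalComplex.exactAt_iff_isZero_homology,
    HomologicalComplex.exactAt_iff' C (i + 2) (i + 1) i (by simp) (by simp), ShortComplex.moduleCat_exact_iff]
  exact ex_of_regular P hP hfin xs hmem N hI hreg i hi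

end GrothLib.IntMult4
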