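import Groth.Agent.Lib.IntMult3.Mult
import Groth.Agent.Lib.IntMult4.Vanish
import Groth.Agent.Lib.AusBuch.Basic
import Groth.Agent.Lib.Serre.Regular
import Groth.Agent.Lib.CMFree.FiniteFlat
import Groth.Agent.Lib.CMFree.Regular
import Groth.Agent.Lib.Depth.Transfer
import Mathlib.RingTheory.Ideal.Cotangent
import Mathlib.RingTheory.RegularLocalRing.Defs

/-! Two quotients of a regular local ring meeting in dimension zero. -/

set_option autoImplicit false
set_option linter.style.haveILetI false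

universe u

open CategoryTheory IsLocalRing RingTheory.Sequence

namespace GrothLib.IntMult4

variable {A : Type u} [CommRing A] [IsRegularLocalRing A]

theorem isCohenMacaulayLocalRing : LocCoh.IsCohenMacaulayLocalRing A := by
  obtain ⟨rs, h1, h2, h3⟩ := GrothLib.CMFree.exists_weaklyRegular_of_isRegularLocalRing A
  exact GrothLib.CMFree.isCohenMacaulayLocalRing_of_weaklyRegular A rs h1 h2 h3.ge

open Submodule in
theorem isRegular_quot {J I : Ideal A} {a b c : ℕ} (hm : J ⊔ I = maximalIdeal A)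
    (ha : ringKrullDim A = a) (hb : ringKrullDim (A ⧸ J) = b) (hc : ringKrullDim (A ⧸ I) = c) (h : a ≤ b + c) :
    IsRegularLocalRing (A ⧸ J) := by
  classical
  let S : Set (maximalIdeal A) := {x | x.1 ∈ J ∨ x.1 ∈ I}
  have hS : Submodule.span A S = ⊤ := by
    rw [eq_top_iff]
    rintro ⟨x, hx⟩ -
    rw [← hm] at hx
    obtain ⟨p, hp, q, hq, rfl⟩ := Submodule.mem_sup.1 hx
    have hp' : p ∈ maximalIdeal A := hm ▸ mem_sup_left hp
    have hq' : q ∈ maximalIdeal A := hm ▸ mem_sup_right hq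
    exact add_mem (subset_span (show (⟨p, hp'⟩ : maximalIdeal A) ∈ S from Or.inl hp))
      (subset_span (show (⟨q, hq'⟩ : maximalIdeal A) ∈ S from Or.inr hq))
  obtain ⟨B, hBS, hBspan, hli⟩ := exists_linearIndependent (ResidueField A) ((maximalIdeal A).toCotangent '' S)
  rw [(CotangentSpace.span_image_eq_top_iff).2 hS] at hBspan
  haveI : Finite B := hli.finite
  haveI := Fintype.ofFinite B
  choose g hgS hg using fun v : B => hBS v.2
  have hcard : Fintype.card B = a := by
    have h1 := (Module.Basis.mk hli (by rw [Subtype.range_coe]; exact hBspan.ge))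
    rw [← Module.finrank_eq_card_basis h1]
    exact_mod_cast ((IsRegularLocalRing.iff_finrank_cotangentSpace A).1 inferInstance).trans ha
  have htop : Submodule.span A (Set.range g) = ⊤ := by
    rw [← CotangentSpace.span_image_eq_top_iff, eq_top_iff, ← hBspan]
    refine span_mono fun v hv => ⟨g ⟨v, hv⟩, Set.mem_range_self _, hg ⟨v, hv⟩⟩
  have hgen : maximalIdeal A = Ideal.span (Set.range fun v => (g v).1) := by
    have := congrArg (Submodule.map (maximalIdeal A).subtype) htop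
    rw [Submodule.map_span, Submodule.map_top, Submodule.range_subtype, ← Set.range_comp] at this
    exact this.symm
  have key : ∀ K : Ideal A, K ≠ ⊤ → ∀ k : ℕ, ringKrullDim (A ⧸ K) = k →
      ∃ n : ℕ, k ≤ n ∧ n ≤ (Finset.univ.filter fun v => (g v).1 ∉ K).card ∧ (n = k → IsRegularLocalRing (A ⧸ K)) := by
    intro K hK k hk
    haveI : Nontrivial (A ⧸ K) := Ideal.Quotient.nontrivial_iff.2 hK
    haveI : IsLocalRing (A ⧸ K) := .of_surjective' (Ideal.Quotient.mk K) Ideal.Quotient.mk_surjective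
    have hmax : maximalIdeal (A ⧸ K) = Ideal.span
        ↑((Finset.univ.filter fun v => (g v).1 ∉ K).image fun v => Ideal.Quotient.mk K (g v).1) := by
      rw [← GrothLib.RegLoc.map_maximalIdeal_quotient K, congrArg (Ideal.map (Ideal.Quotient.mk K)) hgen, Ideal.map_span]
      refine le_antisymm (Ideal.span_le.2 ?_) (Ideal.span_mono ?_)
      · rintro _ ⟨_, ⟨v, rfl⟩, rfl⟩
        by_cases hv : (g v).1 ∈ K
        · rw [Ideal.Quotient.eq_zero_iff_mem.2 hv]; exact zero_mem _
        · exact Ideal.subset_span (Finset.mem_coe.2 (Finset.mem_image.2 ⟨v, by simp [hv], rfl⟩))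
      · intro y hy
        obtain ⟨v, -, rfl⟩ := Finset.mem_image.1 (Finset.mem_coe.1 hy)
        exact ⟨_, ⟨v, rfl⟩, rfl⟩
    refine ⟨(maximalIdeal (A ⧸ K)).spanFinrank, ?_, ?_, fun hn => ?_⟩
    · exact_mod_cast hk.ge.trans (ringKrullDim_le_spanFinrank_maximalIdeal _)
    · rw [hmax]
      refine (Submodule.spanFinrank_span_le_ncard_of_finite (R := A ⧸ K) (Finset.finite_toSet _)).trans ?_
      rw [Set.ncard_coe_finset]
      exact Finset.card_image_le
    · exact IsRegularLocalRing.of_spanFinrank_maximalIdeal_le _ (by rw [hn, hk])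
  have hJ : J ≠ ⊤ := fun e => (maximalIdeal.isMaximal A).ne_top (by rw [← hm, e, top_sup_eq])
  have hI : I ≠ ⊤ := fun e => (maximalIdeal.isMaximal A).ne_top (by rw [← hm, e, sup_top_eq])
  obtain ⟨n₁, hn₁, hn₁', hreg⟩ := key J hJ b hb
  obtain ⟨n₂, hn₂, hn₂', -⟩ := key I hI c hc
  refine hreg ?_
  have hdisj : Disjoint (Finset.univ.filter fun v => (g v).1 ∉ J) (Finset.univ.filter fun v => (g v).1 ∉ I) :=
    Finset.disjoint_filter.2 fun v _ h1 h2 => (hgS v).elim h1 h2
  have hle := Finset.card_le_univ ((Finset.univ.filter fun v => (g v).1 ∉ J) ∪ (Finset.univ.filter fun v => (g v).1 ∉ I))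
  rw [Finset.card_union_of_disjoint hdisj, hcard] at hle
  omega

theorem depth_quot (J : Ideal A) [LocCoh.IsCohenMacaulayLocalRing (A ⧸ J)] :
    ((LocCoh.depth A (A ⧸ J) : ℕ∞) : WithBot ℕ∞) = ringKrullDim (A ⧸ J) := by
  rw [← Module.supportDim_self_eq_ringKrullDim, LocCoh.IsCohenMacaulayLocalRing.supportDim_eq_depth]
  have h := GrothLib.Depth.idealDepth_map_eq (B := A ⧸ J) (maximalIdeal A) (A ⧸ J)
  rw [Ideal.Quotient.algebraMap_eq, GrothLib.RegLoc.map_maximalIdeal_quotient] at h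
  exact congrArg _ h.symm

theorem exists_pd {J : Ideal A} [LocCoh.IsCohenMacaulayLocalRing (A ⧸ J)] {a b : ℕ}
    (ha : ringKrullDim A = a) (hb : ringKrullDim (A ⧸ J) = b) :
    ∃ e, e + b = a ∧ HasProjectiveDimensionLE (ModuleCat.of A (A ⧸ J)) e := by
  classical
  haveI := isCohenMacaulayLocalRing (A := A)
  haveI : Nontrivial (A ⧸ J) := inferInstance
  have hex : ∃ e, HasProjectiveDimensionLE (ModuleCat.of A (A ⧸ J)) e :=
    ⟨a, GrothLib.Serre.pdLE_of_isRegularLocalRing A a ha (A ⧸ J)⟩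
  have hlt : ¬ HasProjectiveDimensionLT (ModuleCat.of A (A ⧸ J)) (Nat.find hex) := by
    rcases hn : Nat.find hex with _ | e
    · rw [hasProjectiveDimensionLT_zero_iff_isZero]
      intro h
      exact not_subsingleton (A ⧸ J) (ModuleCat.subsingleton_of_isZero h)
    · exact Nat.find_min hex (by omega)
  obtain ⟨d, hd, hdA⟩ := GrothLib.AusBuch.exists_isDepth_of_pd A (Nat.find hex) (A ⧸ J) (Nat.find_spec hex) hlt
  obtain ⟨d1, hd1, hd1'⟩ := GrothLib.AusBuch.isDepth_exists A (M := A ⧸ J)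
  obtain ⟨d2, hd2, hd2'⟩ := GrothLib.AusBuch.isDepth_exists A (M := A)
  have h1 := depth_quot J
  rw [hd1, hb] at h1
  have h2 := LocCoh.IsCohenMacaulayLocalRing.supportDim_eq_depth (R := A)
  rw [Module.supportDim_self_eq_ringKrullDim, hd2, ha] at h2
  have e1 : d1 = b := by exact_mod_cast h1
  have e2 : a = d2 := by exact_mod_cast h2
  have := hd.unique A hd1'
  have := hdA.unique A hd2'
  exact ⟨_, by omega, Nat.find_spec hex⟩

/-- Tor-independence of Cohen–Macaulay quotients meeting properly in dimension zero. -/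
theorem subsingleton_tor {J I : Ideal A} [LocCoh.IsCohenMacaulayLocalRing (A ⧸ J)]
    [LocCoh.IsCohenMacaulayLocalRing (A ⧸ I)] {a b c : ℕ}
    (hfin : Module.length A (A ⧸ (J ⊔ I)) ≠ ⊤)
    (ha : ringKrullDim A = a) (hb : ringKrullDim (A ⧸ J) = b) (hc : ringKrullDim (A ⧸ I) = c) (h : a ≤ b + c)
    (i : ℕ) : Subsingleton (DRing.Tor A (i + 1) (A ⧸ I) (A ⧸ J)) := by
  obtain ⟨e, he, hpd⟩ := exists_pd ha hb
  obtain ⟨P, hP⟩ := GrothLib.PdResolution.exists_resolution e _ hpd
  have hd := depth_quot I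
  rw [hc] at hd
  have hle : (c : ℕ∞) ≤ LocCoh.idealDepth (maximalIdeal A) (A ⧸ I) := (WithBot.coe_inj.1 hd).ge
  haveI : Nontrivial (A ⧸ I) := inferInstance
  obtain ⟨xs, hlen, hmem, hreg⟩ := (GrothLib.Depth.le_idealDepth_iff_exists _
    (GrothLib.Depth.smul_top_ne_top (maximalIdeal.isMaximal A).ne_top) c).1 hle
  refine isZero_tor (I := I) P hP ?_ xs hmem (A ⧸ I) (fun x hx n => ?_) hreg i (by omega)
  · have h0 := GrothLib.LenIneq.supportDim_le_zero (R := A) (M := A ⧸ (J ⊔ I)) hfin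
    rw [Module.supportDim_quotient_eq_ringKrullDim, ringKrullDim_quotient, Order.krullDim_nonpos_iff_forall_isMax] at h0
    rw [Ideal.radical_eq_sInf]
    refine le_sInf fun Q hQ => ?_
    haveI := hQ.2
    have hz : (⟨Q, hQ.2⟩ : PrimeSpectrum A) ∈ PrimeSpectrum.zeroLocus ((J ⊔ I : Ideal A) : Set A) := hQ.1
    exact h0 ⟨_, hz⟩ (b := ⟨closedPoint A, hQ.1.trans (IsLocalRing.le_maximalIdeal hQ.2.ne_top)⟩)
      (IsLocalRing.le_maximalIdeal hQ.2.ne_top)
  · exact Module.mem_annihilator.1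
      (show x ∈ Module.annihilator A (A ⧸ I) by rwa [Ideal.annihilator_quotient]) n

/-- The Euler characteristic of Tor-independent modules is the colength. -/
theorem chi_eq_length {A : Type u} [CommRing A] {J I : Ideal A}
    (h : ∀ i : ℕ, Subsingleton (DRing.Tor A (i + 1) (A ⧸ I) (A ⧸ J))) :
    IntMult.chi A (A ⧸ I) (A ⧸ J) = ((Module.length A (A ⧸ (J ⊔ I))).toNat : ℤ) := by
  rw [IntMult.chi, finsum_eq_single _ 0 fun i hi => ?_]
  · rw [pow_zero, one_mul, (GrothLib.KoszulEuler.torZeroEquiv (A ⧸ I) (A ⧸ J)).length_eq,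
      (TensorProduct.tensorQuotEquivQuotSMul (A ⧸ I) J).length_eq, GrothLib.IntMult3.length_quot_eq, sup_comm]
  · obtain ⟨j, rfl⟩ : ∃ j, i = j + 1 := ⟨i - 1, by omega⟩
    haveI := h j
    rw [Module.length_eq_zero]; simp

end GrothLib.IntMult4
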