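import Groth.Agent.Lib.IntMult4.Regular
import Groth.Agent.Lib.WeilExt.Extend
import Groth.Agent.Lib.RegSeqLoc.Scheme

/-! Multiplicity at Cohen–Macaulay or reduced components. -/

set_option autoImplicit false
set_option linter.style.haveILetI false

universe u

open CategoryTheory AlgebraicGeometry TopologicalSpace IsLocalRing

namespace GrothLib.IntMult4

variable {K : Type u} [Field K] {X : Scheme.{u}}

theorem mult_eq_length (f : X ⟶ Spec (CommRingCat.of K)) [Smooth f] [IsIntegral X]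
    (IV IW : X.IdealSheafData) [IsIntegral IV.subscheme] [IsIntegral IW.subscheme]
    (n r s : ℕ) (hn : topologicalKrullDim X = n) (hr : topologicalKrullDim IV.support = r)
    (hs : topologicalKrullDim IW.support = s)
    (hprop : IntMult.ProperInt (IV.support : Set X) (IW.support : Set X) n r s) (ξ : X)
    (hξV : ξ ∈ IV.support) (hξW : ξ ∈ IW.support)
    (hmax : ∀ ξ' : X, ξ' ∈ IV.support → ξ' ∈ IW.support → ξ' ⤳ ξ → ξ' = ξ)
    (hV : LocCoh.IsCohenMacaulayLocalRing (↑(X.presheaf.stalk ξ) ⧸ IntMult.stalkIdeal IV ξ))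
    (hW : LocCoh.IsCohenMacaulayLocalRing (↑(X.presheaf.stalk ξ) ⧸ IntMult.stalkIdeal IW ξ)) :
    (IntMult.mult IV IW ξ : ℤ) = (Module.length (X.presheaf.stalk ξ)
      (↑(X.presheaf.stalk ξ) ⧸ (IntMult.stalkIdeal IV ξ ⊔ IntMult.stalkIdeal IW ξ))).toNat := by
  haveI : IsLocallyNoetherian X := LocallyOfFiniteType.isLocallyNoetherian f
  haveI := GrothLib.WeilExt.isRegularLocalRing_stalk_of_smooth f (GrothLib.WeilExt.isRegularLocalRing_stalk_spec K) ξ
  obtain ⟨e, a, b, c, ha, hb, hc, -, -, -, hle⟩ :=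
    GrothLib.IntMult3.dims f IV IW n r s hn hr hs hprop ξ hξV hξW
  exact chi_eq_length (subsingleton_tor (GrothLib.IntMult3.length_ne_top IV IW ξ hξV hξW hmax) ha hb hc hle)

theorem sup_eq_maximalIdeal {A : Type u} [CommRing A] [IsLocalRing A] {I : Ideal A}
    (h : Module.length A (A ⧸ I) = 1) : I = maximalIdeal A :=
  IsLocalRing.eq_maximalIdeal (Ideal.isMaximal_def.2 (isSimpleModule_iff_isCoatom.1 (Module.length_eq_one_iff.1 h)))

theorem mult_eq_one (f : X ⟶ Spec (CommRingCat.of K)) [Smooth f] [IsIntegral X]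
    (IV IW : X.IdealSheafData) [IsIntegral IV.subscheme] [IsIntegral IW.subscheme]
    (n r s : ℕ) (hn : topologicalKrullDim X = n) (hr : topologicalKrullDim IV.support = r)
    (hs : topologicalKrullDim IW.support = s)
    (hprop : IntMult.ProperInt (IV.support : Set X) (IW.support : Set X) n r s) (ξ : X)
    (hξV : ξ ∈ IV.support) (hξW : ξ ∈ IW.support)
    (hmax : ∀ ξ' : X, ξ' ∈ IV.support → ξ' ∈ IW.support → ξ' ⤳ ξ → ξ' = ξ)
    (h1 : Module.length (X.presheaf.stalk ξ)
      (↑(X.presheaf.stalk ξ) ⧸ (IntMult.stalkIdeal IV ξ ⊔ IntMult.stalkIdeal IW ξ)) = 1) :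
    IntMult.mult IV IW ξ = 1 ∧ IsRegularLocalRing (↑(X.presheaf.stalk ξ) ⧸ IntMult.stalkIdeal IV ξ) ∧
      IsRegularLocalRing (↑(X.presheaf.stalk ξ) ⧸ IntMult.stalkIdeal IW ξ) := by
  haveI : IsLocallyNoetherian X := LocallyOfFiniteType.isLocallyNoetherian f
  haveI := GrothLib.WeilExt.isRegularLocalRing_stalk_of_smooth f (GrothLib.WeilExt.isRegularLocalRing_stalk_spec K) ξ
  obtain ⟨e, a, b, c, ha, hb, hc, -, -, -, hle⟩ :=
    GrothLib.IntMult3.dims f IV IW n r s hn hr hs hprop ξ hξV hξW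
  have hm := sup_eq_maximalIdeal h1
  have hV := isRegular_quot hm ha hb hc hle
  have hW := isRegular_quot ((sup_comm _ _).trans hm) ha hc hb (by omega)
  refine ⟨?_, hV, hW⟩
  rw [mult_eq_length f IV IW n r s hn hr hs hprop ξ hξV hξW hmax
    (@isCohenMacaulayLocalRing _ _ hV) (@isCohenMacaulayLocalRing _ _ hW), h1]
  rfl

end GrothLib.IntMult4
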